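/-
Checks of the certificate for the multiplier of Fi23.
-/
import Cfsg.Agent.Lib.CosetEnum.CoverClass
import Cfsg.Agent.Lib.CosetEnum.Fi31671.Data
import Cfsg.Agent.Lib.CosetEnum.Fi31671.Main
import Cfsg.Agent.Lib.CosetEnum.Fi23Class.Data
import Cfsg.Agent.Lib.CosetEnum.Fi23Aut.Data
import Cfsg.Agent.Lib.CosetEnum.Fi23Mult.Data

set_option autoImplicit false
set_option maxRecDepth 1000000

namespace CfsgLib.CosetEnum.Fi23Mult

/-- The points of the letters. -/
noncomputable def pts (w : List ℕ) : List ℕ := w.map fun x => Fi23Aut.genPts.getD x 0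

/-- The relator of type E7. -/
def e7 : List ℕ := extraWFi23.getD 1 []

/-- The spider relator. -/
def spider : List ℕ := extraWFi23.getD 0 []

/-- The word of the commutator of g and h. -/
def comm : List ℕ := wPts ++ hPts ++ wPts.reverse ++ hPts.reverse

/-- The diagram relators. -/
def coxRels : List (List ℕ) := presFi23.rels.take 55

/-- The check of the diagram relators. -/
noncomputable def okCox : Bool :=
  Nat.beq coxRels.length coxMoves.length && (List.zip coxRels coxMoves).all fun p =>
    Nat.beq (p.1.length % 2) 0 && p.1.all (fun x => Nat.blt x 10) &&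
      okHurwitz Fi31671.table 10 Fi23Class.zf words p.2 (pts p.1) 0 (p.1.length / 2)

theorem cox_ok : okCox = true := by
  simp only [okCox, coxRels, Fi31671.rels_eq]
  decide +kernel

theorem e7_ok : okHurwitz Fi31671.table 10 Fi23Class.zf words e7Moves (pts e7 ++ pts e7) 0 63 = true := by
  decide +kernel

theorem spider_ok : okHurwitz Fi31671.table 10 Fi23Class.zf words spMoves (pts spider ++ comm) 0 53 = true := by
  decide +kernel

/-- The image of a point under a product of members of the class given by word numbers. -/
noncomputable def applyIdx (ws : List ℕ) (d : ℕ) : ℕ :=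
  List.rec (motive := fun _ => ℕ) d
    (fun a _ acc => force acc fun r => conjMap Fi31671.table 10 Fi23Class.zf (wordOf (words.get a)) r) ws

/-- The word numbers reach the points. -/
noncomputable def okIdx (ws ps : List ℕ) : Bool :=
  Nat.beq ws.length ps.length && (List.zip ws ps).all fun p =>
    Nat.blt p.2 31671 && (wordOf (words.get p.1)).all (fun x => Nat.blt x 10) &&
      Nat.beq (runT Fi31671.table 10 (wordOf (words.get p.1)).reverse 0) p.2

theorem idx_ok : (okIdx wIdx wPts && okIdx hIdx hPts && okIdx tIdx tPts) = true := by decide +kernel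

theorem fixed_ok : tPts.all (fun d => Nat.beq (applyIdx wIdx d) d) = true := by decide +kernel

theorem product_ok :
    Fi23Aut.genPts.all (fun d => Nat.beq (applyIdx (hIdx ++ wIdx) d) (applyIdx tIdx d)) = true := by decide +kernel

end CfsgLib.CosetEnum.Fi23Mult
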