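/-
Every finite stem extension of the presented Fi23 is trivial.
-/
import Cfsg.Agent.Lib.CosetEnum.Fi23Aut.Main
import Cfsg.Agent.Lib.CosetEnum.Fi23Mult.Check
import Cfsg.Prelude.Def_KGroupFacts

set_option autoImplicit false
set_option maxRecDepth 1000000

open scoped commutatorElement

namespace CfsgLib.CosetEnum.Fi23Mult

open Cfsg CfsgLib.CosetEnum

/-- The generators stabilising the base point. -/
def subGens : List ℕ := [0, 1, 2, 3, 4, 5, 6, 8, 9]

theorem hw_sub : ∀ w ∈ Fi31671.hw, ∃ x ∈ subGens, w = [x] := by decide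

theorem zw_sub : ∀ x ∈ Fi23Class.zw, x ∈ subGens := by decide

theorem zw_len : Fi23Class.zw.length = 63 := by decide

section

variable {E : Type} [Group E] {π : E →* presFi23.Grp}

theorem comm_central (hker : π.ker ≤ Subgroup.center E) {k : E} (hk : π k = 1) (e : E) : Commute k e :=
  (Subgroup.mem_center_iff.mp (hker hk) e).symm

theorem list_prod_mul_central {f : ℕ → E} {m : E} (hm : ∀ e : E, Commute m e) : ∀ w : List ℕ,
    (w.map fun x => f x * m).prod = (w.map f).prod * m ^ w.length := by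
  intro w
  induction w with
  | nil => simp
  | cons x w ih =>
    simp only [List.map_cons, List.prod_cons, List.length_cons, ih, pow_succ']
    rw [mul_assoc (f x), ← mul_assoc m, (hm _).eq, mul_assoc (f x), mul_assoc]

/-- **The transposition lift commutes with the lifts of its centraliser.** -/
theorem lift_commute (hπ : Function.Surjective π) (hker : π.ker ≤ Subgroup.center E) {t' : E}
    (ht' : π t' = Fi23Aut.tz) : ∀ e : E, π e * Fi23Aut.tz = Fi23Aut.tz * π e → Commute e t' := by
  haveI : Finite presFi23.Grp := Cfsg.Agent.S1697.upper.1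
  haveI : IsSimpleGroup presFi23.Grp := Cfsg.Agent.S1697.result.1
  have hC := (Fi23Class.point_class Fi23Aut.hinj).1
  choose u hu using fun x : ℕ => hπ (presFi23.σ x)
  have hmem : ∀ x ∈ subGens, presFi23.σ x ∈ Fi31671.cert.sub := fun x hx =>
    Subgroup.subset_closure ⟨[x], (show ∀ x ∈ subGens, [x] ∈ Fi31671.hw by decide) x hx, by simp⟩
  -- the pairing with the lift of the transposition
  let μ : E → E := fun e => e * t' * e⁻¹ * t'⁻¹
  have hμk : ∀ e : E, π e * Fi23Aut.tz = Fi23Aut.tz * π e → π (μ e) = 1 := fun e he => by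
    show π (e * t' * e⁻¹ * t'⁻¹) = 1
    rw [map_mul, map_mul, map_mul, map_inv, map_inv, ht', he, mul_inv_cancel_right, mul_inv_cancel]
  have hμmul : ∀ a b : E, π b * Fi23Aut.tz = Fi23Aut.tz * π b → μ (a * b) = μ b * μ a := fun a b hb => by
    have hc := comm_central hker (hμk b hb) a
    calc μ (a * b) = (a * μ b) * (t' * a⁻¹ * t'⁻¹) := by simp only [μ]; group
      _ = (μ b * a) * (t' * a⁻¹ * t'⁻¹) := by rw [hc.eq]
      _ = μ b * μ a := by simp only [μ]; group
  have hμker : ∀ k : E, π k = 1 → μ k = 1 := fun k hk => by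
    show k * t' * k⁻¹ * t'⁻¹ = 1
    rw [(comm_central hker hk t').eq]; group
  have hct : ∀ x ∈ subGens, π (u x) * Fi23Aut.tz = Fi23Aut.tz * π (u x) := fun x hx => by
    rw [hu]
    exact Subgroup.mem_centralizer_singleton_iff.mp (hC.symm ▸ hmem x hx)
  have hsq : ∀ x ∈ subGens, μ (u x) * μ (u x) = 1 := fun x hx => by
    rw [← hμmul _ _ (hct x hx)]
    exact hμker _ (by rw [map_mul, hu, presFi23.σ_sq])
  have step : ∀ a ∈ subGens, ∀ b ∈ subGens,
      coxWord a b 3 ∈ presFi23.rels ∨ coxWord b a 3 ∈ presFi23.rels → μ (u b) = μ (u a) := by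
    intro a ha b hb hr
    have e1 : π ((u a * u b) * u a * (u a * u b)⁻¹ * (u b)⁻¹) = 1 := by
      rw [map_mul, map_mul, map_mul, map_inv, map_inv, map_mul, hu, hu, Fi23Aut.braid' hr]
      group
    set k := (u a * u b) * u a * (u a * u b)⁻¹ * (u b)⁻¹ with hk
    have e2 : k * u b * (u a * u b) = (u a * u b) * u a := by rw [hk]; group
    have h2 := congrArg μ e2
    have hab : π (u a * u b) * Fi23Aut.tz = Fi23Aut.tz * π (u a * u b) := by
      rw [map_mul, mul_assoc, hct b hb, ← mul_assoc, hct a ha, mul_assoc]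
    rw [hμmul _ _ hab, hμmul k (u b) (hct b hb), hμker k e1, mul_one, hμmul (u a * u b) (u a) (hct a ha)] at h2
    rw [← (comm_central hker (hμk _ hab) (μ (u a))).eq] at h2
    exact mul_left_cancel h2
  have hedge : ∀ e ∈ ([(0, 1), (1, 2), (2, 3), (3, 4), (4, 5), (5, 6), (3, 8), (8, 9)] : List (ℕ × ℕ)),
      e.1 ∈ subGens ∧ e.2 ∈ subGens ∧ (coxWord e.1 e.2 3 ∈ presFi23.rels ∨ coxWord e.2 e.1 3 ∈ presFi23.rels) := by
    rw [Fi31671.rels_eq]; decide +kernel
  have all_eq : ∀ x ∈ subGens, μ (u x) = μ (u 0) := by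
    have q := fun a b h => step a (hedge (a, b) h).1 b (hedge (a, b) h).2.1 (hedge (a, b) h).2.2
    have q1 : μ (u 1) = μ (u 0) := q 0 1 (by decide)
    have q2 : μ (u 2) = μ (u 0) := (q 1 2 (by decide)).trans q1
    have q3 : μ (u 3) = μ (u 0) := (q 2 3 (by decide)).trans q2
    have q4 : μ (u 4) = μ (u 0) := (q 3 4 (by decide)).trans q3
    have q5 : μ (u 5) = μ (u 0) := (q 4 5 (by decide)).trans q4
    have q6 : μ (u 6) = μ (u 0) := (q 5 6 (by decide)).trans q5
    have q8 : μ (u 8) = μ (u 0) := (q 3 8 (by decide)).trans q3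
    have q9 : μ (u 9) = μ (u 0) := (q 8 9 (by decide)).trans q8
    intro x hx
    simp only [subGens, List.mem_cons, List.not_mem_nil, or_false] at hx
    rcases hx with rfl | rfl | rfl | rfl | rfl | rfl | rfl | rfl | rfl <;> first | rfl | assumption
  -- the value at the transposition itself
  have hprod : ∀ w : List ℕ, (∀ x ∈ w, x ∈ subGens) →
      π (w.map u).prod * Fi23Aut.tz = Fi23Aut.tz * π (w.map u).prod ∧ μ (w.map u).prod = μ (u 0) ^ w.length := by
    intro w
    induction w with
    | nil => intro _; exact ⟨by simp, by simp [μ]⟩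
    | cons x w ih =>
      intro hw
      obtain ⟨h1, h2⟩ := ih fun y hy => hw y (by simp [hy])
      have hx := hct x (hw x (by simp))
      refine ⟨by rw [List.map_cons, List.prod_cons, map_mul, mul_assoc, h1, ← mul_assoc, hx, mul_assoc], ?_⟩
      rw [List.map_cons, List.prod_cons, hμmul _ _ h1, h2, all_eq x (hw x (by simp)), List.length_cons, pow_succ]
  have h0 : μ (u 0) = 1 := by
    obtain ⟨-, h2⟩ := hprod Fi23Class.zw zw_sub
    have hπz : π ((Fi23Class.zw.map u).prod) = Fi23Aut.tz := by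
      rw [map_list_prod, List.map_map]
      show ((Fi23Class.zw.map fun x => π (u x))).prod = _
      simp only [hu]
      rfl
    have hk : π (t' * ((Fi23Class.zw.map u).prod)⁻¹) = 1 := by rw [map_mul, map_inv, hπz, ht', mul_inv_cancel]
    have h3 : μ t' = μ (Fi23Class.zw.map u).prod := by
      have e : t' = t' * ((Fi23Class.zw.map u).prod)⁻¹ * (Fi23Class.zw.map u).prod := by group
      conv_lhs => rw [e]
      rw [hμmul _ _ (by rw [hπz]), hμker _ hk, mul_one]
    have h4 : μ t' = 1 := by simp [μ]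
    rw [← h3, h4, zw_len, show (63 : ℕ) = 2 * 31 + 1 from rfl, pow_succ, pow_mul, pow_two,
      hsq 0 (by decide), one_pow, one_mul] at h2
    exact h2.symm
  have hu_comm : ∀ x ∈ subGens, Commute (u x) t' := fun x hx => by
    have h : u x * t' * (u x)⁻¹ * t'⁻¹ = 1 := (all_eq x hx).trans h0
    show u x * t' = t' * u x
    calc u x * t' = (u x * t' * (u x)⁻¹ * t'⁻¹) * (t' * u x) := by group
      _ = t' * u x := by rw [h, one_mul]
  intro e he
  have hg : π e ∈ Fi31671.cert.sub := hC ▸ Subgroup.mem_centralizer_singleton_iff.mpr he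
  revert he
  suffices h : ∀ g ∈ Fi31671.cert.sub, ∀ e : E, π e = g → Commute e t' from fun _ => h _ hg e rfl
  intro g hg'
  induction hg' using Subgroup.closure_induction with
  | mem g hg' =>
    intro e he
    obtain ⟨w, hw, rfl⟩ := hg'
    obtain ⟨x, hx, rfl⟩ := hw_sub w hw
    have hk : π (e * (u x)⁻¹) = 1 := by rw [map_mul, map_inv, he, hu]; simp
    rw [show e = e * (u x)⁻¹ * u x by group]
    exact (comm_central hker hk t').mul_left (hu_comm x hx)
  | one =>
    intro e he
    exact comm_central hker he t'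
  | mul a b _ _ iha ihb =>
    intro e he
    obtain ⟨b', hb'⟩ := hπ b
    have ha' : π (e * b'⁻¹) = a := by rw [map_mul, map_inv, he, hb', mul_inv_cancel_right]
    rw [show e = e * b'⁻¹ * b' by group]
    exact (iha _ ha').mul_left (ihb _ hb')
  | inv a _ iha =>
    intro e he
    have h := iha e⁻¹ (by rw [map_inv, he, inv_inv])
    simpa using h.inv_left

theorem applyIdx_spec {x : Fin Fi31671.cert.T.n → E} {c : E}
    (hF : Fi31671.cert.LiftFam Fi31671.hlt π x c Fi23Aut.tz) :
    ∀ (ws ps : List ℕ), okIdx ws ps = true → ∀ d : Fin Fi31671.cert.T.n,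
      (Fi31671.cert.hom Fi31671.hlt (π (Fi31671.cert.ev x ps)) d : ℕ) = applyIdx ws d := by
  intro ws
  induction ws with
  | nil =>
    intro ps h d
    cases ps with
    | nil => rw [Cert.ev_nil, map_one, map_one, Equiv.Perm.one_apply]; rfl
    | cons => simp [okIdx] at h
  | cons a ws ih =>
    intro ps h d
    cases ps with
    | nil => simp [okIdx] at h
    | cons q ps =>
      simp only [okIdx, List.zip_cons_cons, List.all_cons, List.length_cons, Bool.and_eq_true, List.all_eq_true,
        blt_iff] at h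
      obtain ⟨hl, ⟨⟨hq, hwl⟩, hr⟩, hrest⟩ := h
      have hok : okIdx ws ps = true := by
        simp only [okIdx, Bool.and_eq_true, List.all_eq_true, blt_iff]
        exact ⟨by rw [Nat.succ_injective (Nat.eq_of_beq_eq_true hl)]; exact Nat.beq_refl _, hrest⟩
      rw [Cert.ev_cons, map_mul, map_mul, Equiv.Perm.mul_apply, Cert.lf, dif_pos (show q < Fi31671.cert.T.n from hq),
        Fi31671.cert.hom_lift Fi31671.hlt Fi23Aut.hid hF Fi23Aut.stabIsCent Fi23Aut.real_t _ hwl
          (q := ⟨q, hq⟩) (Nat.eq_of_beq_eq_true hr), ih ps hok d]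
      show _ = force (applyIdx ws d) _
      rw [force_eq]
      rfl

/-- **Every central extension of the presented Fi23 by a finite group, with perfect cover, is trivial.** -/
theorem ker_eq_bot [Finite E] (hσ : IsStemExtension π) : π.ker = ⊥ := by
  haveI : Finite presFi23.Grp := Cfsg.Agent.S1697.upper.1
  haveI : IsSimpleGroup presFi23.Grp := Cfsg.Agent.S1697.result.1
  obtain ⟨hπ, hker, hcom⟩ := hσ
  obtain ⟨t', ht'⟩ := hπ Fi23Aut.tz
  obtain ⟨x, hF⟩ := Fi31671.cert.exists_liftFam Fi31671.hlt Fi23Aut.hid π hπ hker Fi23Aut.stabIsCent Fi23Aut.t_sq ht'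
    (lift_commute hπ hker ht')
  set c := t' * t' with hc
  have hcen := hF.central
  let ev := Fi31671.cert.ev x
  have hev : ∀ {ms s : List ℕ} {n : ℕ}, okHurwitz Fi31671.table 10 Fi23Class.zf words ms s 0 n = true →
      (∀ q ∈ s, q < 31671) → ev s = c ^ n := fun h hs =>
    Fi31671.cert.ev_of_okHurwitz Fi31671.hlt Fi23Aut.hid hF Fi23Aut.stabIsCent Fi23Aut.real_t words h hs
  -- lifts of the generators
  let y : ℕ → E := fun i => Fi31671.cert.lf x (Fi23Aut.genPts.getD i 0)
  have hy : ∀ i, i < 10 → π (y i) = presFi23.σ i := fun i hi => by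
    show π (Fi31671.cert.lf x (Fi23Aut.qOf i)) = _
    have hq : Fi23Aut.qOf i < Fi31671.cert.T.n := Fi23Aut.qOf_lt i hi
    rw [Cert.lf, dif_pos hq]
    exact Fi31671.cert.isPt_unique Fi31671.hlt Fi23Aut.stabIsCent (hF.pt _) (Fi23Aut.pt_gen i hi)
  have hyv : ∀ w : List ℕ, (w.map y).prod = ev (pts w) := fun w => by
    show _ = ((w.map _).map _).prod
    rw [List.map_map]
    rfl
  have hπw : ∀ w : List ℕ, (∀ i ∈ w, i < 10) → π (ev (pts w)) = (w.map presFi23.σ).prod := fun w hw => by
    rw [← hyv, map_list_prod, List.map_map]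
    exact congrArg List.prod (List.map_congr_left fun i hi => hy i (hw i hi))
  have hpts : ∀ w : List ℕ, ∀ q ∈ pts w, q < 31671 := by
    intro w q hq
    obtain ⟨i, -, rfl⟩ := List.mem_map.mp hq
    rcases Nat.lt_or_ge i 10 with h | h
    · exact Fi23Aut.qOf_lt i h
    · rw [List.getD_eq_default _ _ (show Fi23Aut.genPts.length ≤ i from h)]; norm_num
  have he7mem : e7 ∈ presFi23.rels ∧ spider ∈ presFi23.rels ∧ (∀ i ∈ e7, i < 10) ∧ e7.length = 63 ∧
      spider.length = 90 := by
    rw [Fi31671.rels_eq]; decide +kernel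
  set ζ := ev (pts e7) with hζdef
  have hζ : ∀ e : E, Commute ζ e := comm_central hker (by
    rw [hπw _ he7mem.2.2.1]; exact presFi23.rels_one he7mem.1)
  have hζ2 : ζ * ζ = c ^ 63 := by
    rw [← hev e7_ok (fun q hq => by rcases List.mem_append.mp hq with h | h <;> exact hpts _ q h)]
    exact (Fi31671.cert.ev_append _ _).symm
  -- the normalisation
  set m := ζ⁻¹ * c ^ 31 with hmdef
  have hm : ∀ e : E, Commute m e := fun e => (hζ e).inv_left.mul_left ((hcen e).pow_left 31)
  have hcm : c * (m * m) = 1 := by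
    have e : m * m = (ζ * ζ)⁻¹ * c ^ 62 := by
      rw [hmdef, show (c : E) ^ 62 = c ^ 31 * c ^ 31 by rw [← pow_add], mul_inv_rev]
      calc ζ⁻¹ * c ^ 31 * (ζ⁻¹ * c ^ 31) = ζ⁻¹ * (c ^ 31 * ζ⁻¹) * c ^ 31 := by group
        _ = ζ⁻¹ * (ζ⁻¹ * c ^ 31) * c ^ 31 := by rw [((hζ (c ^ 31)).inv_left).eq]
        _ = ζ⁻¹ * ζ⁻¹ * (c ^ 31 * c ^ 31) := by group
    rw [e, hζ2]
    group
  have even_rel : ∀ {w : List ℕ} {k : ℕ}, w.length = 2 * k → ev (pts w) = c ^ k → (w.map fun i => y i * m).prod = 1 := by
    intro w k hl he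
    rw [list_prod_mul_central hm, hyv, he, hl, pow_mul, pow_two, ← (Commute.mul_pow (hcen (m * m)) k), hcm, one_pow]
  have odd7 : (e7.map fun i => y i * m).prod = 1 := by
    rw [list_prod_mul_central hm, hyv, he7mem.2.2.2.1, ← hζdef, show (63 : ℕ) = 2 * 31 + 1 from rfl, pow_succ, pow_mul,
      pow_two]
    have h1 : c ^ 31 * (m * m) ^ 31 = 1 := by rw [← (Commute.mul_pow (hcen (m * m)) 31), hcm, one_pow]
    calc ζ * ((m * m) ^ 31 * m) = ζ * (m * (m * m) ^ 31) := by rw [((hm ((m * m) ^ 31)).eq)]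
      _ = ζ * ζ⁻¹ * (c ^ 31 * (m * m) ^ 31) := by rw [hmdef]; group
      _ = 1 := by rw [h1, mul_inv_cancel, mul_one]
  -- the spider
  have hidx := idx_ok
  simp only [Bool.and_eq_true] at hidx
  obtain ⟨⟨hiw, hih⟩, hit⟩ := hidx
  set G := ev wPts with hGdef
  set H := ev hPts with hHdef
  have hGT : Commute G (ev tPts) := by
    have key : ∀ l : List ℕ, (∀ q ∈ l, q < 31671 ∧ applyIdx wIdx q = q) → Commute G (ev l) := by
      intro l
      induction l with
      | nil => intro _; exact Commute.one_right _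
      | cons q l ih =>
        intro hl
        obtain ⟨hq, hfix⟩ := hl q (by simp)
        show Commute G (Fi31671.cert.ev x (q :: l))
        rw [Cert.ev_cons]
        refine Commute.mul_right ?_ (ih fun r hr => hl r (by simp [hr]))
        rw [Cert.lf, dif_pos (show q < Fi31671.cert.T.n from hq)]
        have h := hF.conj G ⟨q, hq⟩
        have e : Fi31671.cert.hom Fi31671.hlt (π G) ⟨q, hq⟩ = ⟨q, hq⟩ :=
          Fin.ext ((applyIdx_spec hF _ _ hiw _).trans hfix)
        rw [e] at h
        exact mul_inv_eq_iff_eq_mul.mp h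
    refine key _ fun q hq => ⟨(show ∀ q ∈ tPts, q < 31671 by decide) q hq, ?_⟩
    exact Nat.eq_of_beq_eq_true (List.all_eq_true.mp fixed_ok q hq)
  have hHG : π (H * G) = π (ev tPts) := by
    have hidx2 : okIdx (hIdx ++ wIdx) (hPts ++ wPts) = true := by decide +kernel
    have h1 : (π (ev tPts))⁻¹ * π (H * G) = 1 := by
      refine Subgroup.mem_bot.mp (Fi23Aut.preStab_bot ▸ (show _ ∈ Fi31671.cert.preStab Fi31671.hlt Fi23Aut.conf from ?_))
      intro d hd
      have hd' : (d : ℕ) ∈ Fi23Aut.genPts := (show ∀ q ∈ Fi23Aut.conf.map Prod.snd, q ∈ Fi23Aut.genPts by decide) _ hd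
      have e1 := applyIdx_spec hF _ _ hidx2 d
      have e2 := applyIdx_spec hF _ _ hit d
      have e3 := Nat.eq_of_beq_eq_true (List.all_eq_true.mp product_ok _ hd')
      have e4 : Fi31671.cert.hom Fi31671.hlt (π (H * G)) d = Fi31671.cert.hom Fi31671.hlt (π (ev tPts)) d := by
        refine Fin.ext (Eq.trans ?_ (e3.trans e2.symm))
        rw [← e1, Cert.ev_append]
      rw [map_mul, Equiv.Perm.mul_apply, e4, map_inv, Equiv.Perm.inv_def, Equiv.symm_apply_apply]
    exact (inv_mul_eq_one.mp h1).symm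
  have hGH : Commute G H := by
    have hk : π (H * G * (ev tPts)⁻¹) = 1 := by rw [map_mul π (H * G), map_inv, hHG, mul_inv_cancel]
    have h1 : Commute G (H * G) := by
      rw [show H * G = H * G * (ev tPts)⁻¹ * ev tPts by group]
      exact (comm_central hker hk G).symm.mul_right hGT
    have h2 := h1.mul_right (Commute.refl G).inv_right
    rwa [mul_inv_cancel_right] at h2
  have hrev : ∀ l : List ℕ, (∀ q ∈ l, q < 31671) → ev l * ev l.reverse = c ^ l.length := by
    intro l
    induction l with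
    | nil => intro _; show Fi31671.cert.ev x [] * Fi31671.cert.ev x [] = _; simp [Cert.ev_nil]
    | cons q l ih =>
      intro hl
      show Fi31671.cert.ev x (q :: l) * Fi31671.cert.ev x (q :: l).reverse = _
      rw [List.reverse_cons, Cert.ev_append, Cert.ev_cons, Cert.ev_cons, Cert.ev_nil, mul_one,
        Cert.lf, dif_pos (show q < Fi31671.cert.T.n from hl q (by simp)), List.length_cons]
      calc x ⟨q, hl q (by simp)⟩ * ev l * (ev l.reverse * x ⟨q, hl q (by simp)⟩)
          = x ⟨q, hl q (by simp)⟩ * (ev l * ev l.reverse) * x ⟨q, hl q (by simp)⟩ := by group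
        _ = c ^ l.length * (x ⟨q, hl q (by simp)⟩ * x ⟨q, hl q (by simp)⟩) := by
          rw [ih fun r hr => hl r (by simp [hr]), ← ((hcen _).pow_left l.length).eq, mul_assoc]
        _ = c ^ (l.length + 1) := by rw [hF.sq, pow_succ]
  have hK : ev comm = c ^ 8 := by
    have a1 : ev wPts.reverse = G⁻¹ * c ^ 4 := by
      rw [eq_inv_mul_iff_mul_eq, hGdef, hrev _ (by decide)]
      rfl
    have a2 : ev hPts.reverse = H⁻¹ * c ^ 4 := by
      rw [eq_inv_mul_iff_mul_eq, hHdef, hrev _ (by decide)]
      rfl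
    show Fi31671.cert.ev x (wPts ++ hPts ++ wPts.reverse ++ hPts.reverse) = _
    rw [Cert.ev_append, Cert.ev_append, Cert.ev_append]
    show G * H * ev wPts.reverse * ev hPts.reverse = _
    rw [a1, a2]
    have hc4 := (hcen (H⁻¹)).pow_left 4
    calc G * H * (G⁻¹ * c ^ 4) * (H⁻¹ * c ^ 4) = G * H * G⁻¹ * (c ^ 4 * H⁻¹) * c ^ 4 := by group
      _ = G * H * G⁻¹ * (H⁻¹ * c ^ 4) * c ^ 4 := by rw [hc4.eq]
      _ = H * G * G⁻¹ * (H⁻¹ * c ^ 4) * c ^ 4 := by rw [hGH.eq]
      _ = c ^ 8 := by group
  have hspider : (spider.map fun i => y i * m).prod = 1 := by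
    refine even_rel (k := 45) he7mem.2.2.2.2 ?_
    have h := hev spider_ok (fun q hq => by
      rcases List.mem_append.mp hq with h | h
      · exact hpts _ q h
      · exact (show ∀ q ∈ comm, q < 31671 by decide) q h)
    show Fi31671.cert.ev x _ = _
    have h2 : ev (pts spider) * c ^ 8 = c ^ 45 * c ^ 8 := by
      rw [← pow_add, ← hK, ← h]
      exact (Fi31671.cert.ev_append _ _).symm
    exact mul_right_cancel h2
  -- the homomorphism back
  have hcox := cox_ok
  simp only [okCox, Bool.and_eq_true, List.all_eq_true, blt_iff] at hcox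
  obtain ⟨hlen, hall⟩ := hcox
  let τ : ℕ → E := fun i => if i < 10 then y i * m else 1
  have hτw : ∀ w : List ℕ, (∀ i ∈ w, i < 10) → (w.map τ).prod = (w.map fun i => y i * m).prod := fun w hw =>
    congrArg List.prod (List.map_congr_left fun i hi => if_pos (hw i hi))
  have hrels : ∀ w ∈ presFi23.rels, (w.map τ).prod = 1 := by
    intro w hw
    rw [hτw w (fun i hi => Fi31671.hlt w hw i hi)]
    have hsplit : presFi23.rels = coxRels ++ [spider, e7] := by
      simp only [coxRels, Fi31671.rels_eq]; decide +kernel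
    rw [hsplit, List.mem_append] at hw
    rcases hw with hw | hw
    · obtain ⟨i, hi, rfl⟩ := List.mem_iff_getElem.mp hw
      have hi' : i < coxMoves.length := Nat.eq_of_beq_eq_true hlen ▸ hi
      have hmem : (coxRels[i], coxMoves[i]) ∈ List.zip coxRels coxMoves := by
        refine List.mem_iff_getElem.mpr ⟨i, by rw [List.length_zip]; omega, ?_⟩
        exact List.getElem_zip
      obtain ⟨⟨hev2, -⟩, hh⟩ := hall _ hmem
      refine even_rel (k := coxRels[i].length / 2) ?_ (hev hh (hpts _))
      have h2 : coxRels[i].length % 2 = 0 := Nat.eq_of_beq_eq_true hev2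
      omega
    · simp only [List.mem_cons, List.not_mem_nil, or_false] at hw
      rcases hw with rfl | rfl
      · exact hspider
      · exact odd7
  have hτsq : ∀ i, τ i * τ i = 1 := by
    intro i
    show (if i < 10 then y i * m else 1) * (if i < 10 then y i * m else 1) = 1
    split
    · rename_i hi
      have hsq : y i * y i = c := by
        show Fi31671.cert.lf x (Fi23Aut.qOf i) * Fi31671.cert.lf x (Fi23Aut.qOf i) = c
        rw [Cert.lf, dif_pos (show Fi23Aut.qOf i < Fi31671.cert.T.n from Fi23Aut.qOf_lt i hi), hF.sq]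
      calc y i * m * (y i * m) = y i * (m * y i) * m := by group
        _ = y i * (y i * m) * m := by rw [(hm (y i)).eq]
        _ = y i * y i * (m * m) := by group
        _ = 1 := by rw [hsq, hcm]
    · rw [mul_one]
  set s : presFi23.Grp →* E := PresentedGroup.toGroup (presFi23.lift_rel hτsq hrels) with hs
  have hπm : π m = 1 := by
    have hπc : π c = 1 := by rw [hc, map_mul, ht', Fi23Aut.t_sq]
    rw [hmdef, map_mul, map_inv, map_pow, hπc, hζdef, hπw _ he7mem.2.2.1, presFi23.rels_one he7mem.1]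
    simp
  have hsec : ∀ g, π (s g) = g := by
    have e : π.comp s = MonoidHom.id presFi23.Grp := by
      refine MonoidHom.eq_of_eqOn_dense presFi23.gen_closure ?_
      rintro _ ⟨i, hi, rfl⟩
      have hsi : presFi23.σ i = PresentedGroup.of (presFi23.gen i) := if_pos hi
      rw [MonoidHom.comp_apply, MonoidHom.id_apply, hs, hsi, PresentedGroup.toGroup.of, Function.comp_apply,
        Fi23Aut.hid i hi, ← hsi]
      show π (if i < 10 then y i * m else 1) = _
      rw [if_pos (show i < 10 from hi), map_mul, hπm, mul_one, hy i hi]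
    intro g
    exact DFunLike.congr_fun e g
  -- the image of the section is everything, as it contains every commutator
  have hle : commutator E ≤ s.range := by
    rw [commutator_def, Subgroup.commutator_le]
    intro a _ b _
    refine ⟨⁅π a, π b⁆, ?_⟩
    have ha : π (a * (s (π a))⁻¹) = 1 := by rw [map_mul, map_inv, hsec, mul_inv_cancel]
    have hb : π (b * (s (π b))⁻¹) = 1 := by rw [map_mul, map_inv, hsec, mul_inv_cancel]
    set ka := a * (s (π a))⁻¹ with hka
    set kb := b * (s (π b))⁻¹ with hkb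
    have ea : a = ka * s (π a) := by rw [hka]; group
    have eb : b = kb * s (π b) := by rw [hkb]; group
    rw [map_commutatorElement]
    conv_rhs => rw [ea, eb]
    simp only [commutatorElement_def, mul_inv_rev]
    set A := s (π a)
    set B := s (π b)
    symm
    calc ka * A * (kb * B) * (A⁻¹ * ka⁻¹) * (B⁻¹ * kb⁻¹)
        = ka * (A * kb) * B * A⁻¹ * ka⁻¹ * B⁻¹ * kb⁻¹ := by group
      _ = ka * (kb * A) * B * A⁻¹ * ka⁻¹ * B⁻¹ * kb⁻¹ := by rw [(comm_central hker hb A).eq]
      _ = (ka * (kb * (A * B * A⁻¹))) * ka⁻¹ * B⁻¹ * kb⁻¹ := by group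
      _ = ((kb * (A * B * A⁻¹)) * ka) * ka⁻¹ * B⁻¹ * kb⁻¹ := by rw [(comm_central hker ha _).eq]
      _ = kb * (A * B * A⁻¹ * B⁻¹) * kb⁻¹ := by group
      _ = A * B * A⁻¹ * B⁻¹ := by rw [(comm_central hker hb _).eq, mul_inv_cancel_right]
  rw [Subgroup.eq_bot_iff_forall]
  intro k hk
  obtain ⟨g, rfl⟩ := hle (hcom hk)
  have hk' : π (s g) = 1 := hk
  rw [hsec] at hk'
  rw [hk', map_one]

end

/-- **The Schur multiplier of the presented Fi23 is trivial.** -/
theorem multiplier : Cfsg.HasCyclicSchurMultiplier presFi23.Grp 1 := by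
  haveI : Finite presFi23.Grp := Cfsg.Agent.S1697.upper.1
  refine ⟨⟨presFi23.Grp, inferInstance, inferInstance, MonoidHom.id _, ⟨Function.surjective_id, ?_, ?_⟩, ?_⟩, ?_⟩
  · simp
  · simp
  · have hk : ∀ z : (MonoidHom.id presFi23.Grp).ker, z = 1 := fun z => Subtype.ext z.2
    exact ⟨{ toFun := fun _ => 1, invFun := fun _ => 1, left_inv := fun z => (hk z).symm,
             right_inv := fun z => Subsingleton.elim _ _, map_mul' := fun _ _ => (one_mul _).symm }⟩
  · intro Γ _ _ σ hσ
    refine ⟨1, fun k => ⟨1, ?_⟩⟩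
    have := ker_eq_bot hσ
    exact Subtype.ext (Subgroup.mem_bot.mp (this ▸ k.2)).symm

end CfsgLib.CosetEnum.Fi23Mult
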